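import Mathlib
import Groth.Prelude.Def_PerfAux
import Groth.Prelude.Def_Coh
import Groth.Agent.CohCmpLib.EulerConst
import Groth.Agent.CohCmpLib.SemiCont
import Groth.Agent.PicRepLib.Smooth
import Groth.Agent.SteinLib.Conn
import Groth.Agent.NefH1Lib.Adjunction.Basic
import Groth.Agent.FibDimLib.Semicont
import Groth.Agent.FibDimLib.Smooth
import Groth.Agent.FibDimLib.TopLocalDim
import Groth.Agent.HdgLefLib.Rows
import Groth.Agent.CurvLib.SupportVanish

/-!
# Reduced fibres of a surface over a curve
-/

set_option autoImplicit false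
set_option linter.style.haveILetI false
set_option linter.unusedSectionVars false
set_option backward.isDefEq.respectTransparency.types false
universe u

open CategoryTheory CategoryTheory.Limits AlgebraicGeometry TopologicalSpace

noncomputable section

namespace SurfFibLib

/-- A closed set without maximal points has smaller dimension. -/
theorem krullDim_le_of_no_max {α : Type*} [TopologicalSpace α] [QuasiSober α] {F : Set α} (hF : IsClosed F)
    (h : ∀ z ∈ F, ∃ w, w ∉ F ∧ w ⤳ z) {n : ℕ} (hd : topologicalKrullDim α ≤ ((n + 1 : ℕ) : WithBot ℕ∞)) :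
    topologicalKrullDim F ≤ (n : WithBot ℕ∞) := by
  refine iSup_le fun l => ?_
  let m : TopologicalSpace.IrreducibleCloseds F → TopologicalSpace.IrreducibleCloseds α := fun Z =>
    ⟨(↑) '' (Z : Set F), Z.isIrreducible.image _ continuous_subtype_val.continuousOn,
      hF.isClosedEmbedding_subtypeVal.isClosedMap _ Z.isClosed⟩
  have hm : StrictMono m := by
    intro A B hAB
    refine lt_of_le_of_ne (fun x hx => ?_) (fun he => hAB.ne (SetLike.ext' ?_))
    · obtain ⟨a, ha, rfl⟩ := hx
      exact ⟨a, hAB.le ha, rfl⟩
    · exact Subtype.val_injective.image_injective (congrArg (fun Z : IrreducibleCloseds α => (Z : Set α)) he)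
  let L := l.map m hm
  obtain ⟨z, hz⟩ := QuasiSober.sober L.last.isIrreducible L.last.isClosed
  have hzF : z ∈ F := by
    have h1 : z ∈ ((↑) '' (l.last : Set F) : Set α) := hz.mem
    obtain ⟨a, -, ha⟩ := h1
    exact ha ▸ a.2
  obtain ⟨w, hw, hwz⟩ := h z hzF
  let W : IrreducibleCloseds α := ⟨closure {w}, isIrreducible_singleton.closure, isClosed_closure⟩
  have hlt : L.last < W := by
    refine lt_of_le_of_ne (fun x hx => ?_) (fun he => hw ?_)
    · exact closure_minimal (Set.singleton_subset_iff.2 (specializes_iff_mem_closure.1 hwz)) isClosed_closure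
        (hz.def ▸ hx)
    · have h1 : w ∈ (L.last : Set α) := he ▸ subset_closure rfl
      obtain ⟨a, -, ha⟩ := h1
      exact ha ▸ a.2
  have h2 : ((L.snoc W hlt).length : WithBot ℕ∞) ≤ ((n + 1 : ℕ) : WithBot ℕ∞) :=
    (le_iSup (fun q : LTSeries (IrreducibleCloseds α) => (q.length : WithBot ℕ∞)) _).trans hd
  have h3 : (L.snoc W hlt).length ≤ n + 1 := by exact_mod_cast h2
  have h4 : (L.snoc W hlt).length = l.length + 1 := rfl
  exact_mod_cast (show l.length ≤ n by omega)

theorem main {k : Type u} [Field k] [IsAlgClosed k] {X S : Scheme.{u}}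
    (π : X ⟶ S) (g : S ⟶ Spec (CommRingCat.of k))
    [SmoothOfRelativeDimension 1 g] [IrreducibleSpace S]
    [SmoothOfRelativeDimension 2 (π ≫ g)] [IsProper (π ≫ g)]
    [IsProper π] [Flat π]
    (hO : ∀ U : S.Opens, Function.Bijective (π.app U))
    (s : S) (hs : IsClosed ({s} : Set S)) [AlgebraicGeometry.IsReduced (π.fiber s)] :
    PerfAux.betti π (Coh.structureModule X) s 0 = 1 ∧
      PerfAux.betti π (Coh.structureModule X) s 1 =
        PerfAux.betti π (Coh.structureModule X) (genericPoint S) 1 := by
  haveI : Smooth g := SmoothOfRelativeDimension.smooth 1 g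
  haveI : IsLocallyNoetherian S := LocallyOfFiniteType.isLocallyNoetherian g
  haveI : GeometricallyConnected π := SteinLib.geometricallyConnected_of_isIso_app π fun U _ =>
    (ConcreteCategory.isIso_iff_bijective (π.app U)).2 (hO U)
  obtain ⟨hq, hfp, hfl⟩ := PicRepLib.structure_hyps (f := π)
  haveI := hq
  -- the closed point is not the generic one
  have hsη : s ≠ genericPoint S := by
    intro he
    have hu : ({s} : Set S) = Set.univ := by
      rw [← hs.closure_eq, he]
      exact (genericPoint_spec S).def
    haveI : Subsingleton S := ⟨fun a b =>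
      (show a = s from hu.ge (Set.mem_univ a)).trans (show b = s from hu.ge (Set.mem_univ b)).symm⟩
    have h1 : topologicalKrullDim S ≤ (0 : WithBot ℕ∞) :=
      topologicalKrullDim_zero_of_discreteTopology S
    have h2 : FlatMor.localDim S s = ((1 : ℕ) : WithBot ℕ∞) :=
      (SmoothDimLib.fibreDimAt_eq_localDim g s).symm.trans (FibDimLib.fibreDimAt_smoothOfRelativeDimension 1 g s)
    have h3 := h2 ▸ (FibDimLib.topologicalKrullDim_eq_iSup_localDim (X := S) ▸ le_iSup (FlatMor.localDim S) s)
    exact absurd (h3.trans h1) (by norm_num)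
  -- fibre dimensions
  have hdX : topologicalKrullDim X ≤ ((1 + 1 : ℕ) : WithBot ℕ∞) := by
    letI : X.Over (Spec (CommRingCat.of k)) := ⟨π ≫ g⟩
    haveI : SmoothOfRelativeDimension 2 (X ↘ Spec (CommRingCat.of k)) := ‹SmoothOfRelativeDimension 2 (π ≫ g)›
    exact HdgLefLib.krullDim_le_of_smoothOfRelativeDimension (k := k) (X := X) 2
  have hdim : topologicalKrullDim ↥(π.fiber s) ≤ ((1 : ℕ) : WithBot ℕ∞) := by
    have h1 : topologicalKrullDim ↥(π ⁻¹' {s} : Set X) ≤ ((1 : ℕ) : WithBot ℕ∞) := by
      refine krullDim_le_of_no_max (hs.preimage π.continuous) (fun z hz => ?_) hdX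
      obtain ⟨w, hwz, hw⟩ := Flat.generalizingMap π ((genericPoint_spec S).specializes (Set.mem_univ (π z)))
      exact ⟨w, fun hws => hsη ((show π w = s from hws).symm.trans hw), hwz⟩
    refine le_of_eq_of_le ?_ h1
    exact IsHomeomorph.topologicalKrullDim_eq (π.fiberHomeo s) (π.fiberHomeo s).isHomeomorph
  have hgen : genericPoint S ⤳ s := (genericPoint_spec S).specializes (Set.mem_univ s)
  have hdimη : topologicalKrullDim ↥(π.fiber (genericPoint S)) ≤ ((1 : ℕ) : WithBot ℕ∞) :=
    hgen.mem_open (FibDimLib.isOpen_fiber_dim_le π π.isClosedMap _) hdim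
  -- the Betti numbers in the two fibres
  have hfib : ∀ t : S, topologicalKrullDim ↥(π.fiber t) ≤ ((1 : ℕ) : WithBot ℕ∞) →
      PerfAux.eulerChar π (Coh.structureModule X) t =
        (PerfAux.betti π (Coh.structureModule X) t 0 : ℤ) - PerfAux.betti π (Coh.structureModule X) t 1 := by
    intro t ht
    letI : (π.fiber t).Over (Spec (CommRingCat.of (S.residueField t))) := ⟨π.fiberToSpecResidueField t⟩
    haveI : IsProper (π.fiber t ↘ Spec (CommRingCat.of (S.residueField t))) :=
      MorphismProperty.pullback_snd _ _ ‹IsProper π›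
    haveI := CurvLib.isNoetherian (S.residueField t) (X := π.fiber t)
    refine (finsum_eq_sum_of_support_subset (s := Finset.range 2) _ fun i hi => ?_).trans (by
      rw [Finset.sum_range_succ, Finset.sum_range_one, pow_zero, pow_one]; ring)
    by_contra hlt
    simp only [Finset.coe_range, Set.mem_Iio, not_lt] at hlt
    haveI := CurvLib.subsingleton_HH_of_dim_le ((Scheme.Modules.pullback (π.fiberι t)).obj (Coh.structureModule X))
      ht i (by omega)
    apply hi
    show (-1 : ℤ) ^ i * (PerfAux.betti π (Coh.structureModule X) t i : ℤ) = 0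
    rw [show PerfAux.betti π (Coh.structureModule X) t i = 0 from Module.finrank_zero_of_subsingleton]
    simp
  -- global functions
  have h0s : PerfAux.betti π (Coh.structureModule X) s 0 = 1 := by
    haveI : IsAlgClosed (S.residueField s) := IsAlgClosed.of_ringEquiv k _
      (residueFieldIsoBase g s hs).symm.commRingCatIsoToRingEquiv
    letI : (π.fiber s).Over (Spec (CommRingCat.of (S.residueField s))) := ⟨π.fiberToSpecResidueField s⟩
    haveI : IsProper (π.fiber s ↘ Spec (CommRingCat.of (S.residueField s))) :=
      MorphismProperty.pullback_snd _ _ ‹IsProper π›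
    haveI : ConnectedSpace ↥(π.fiber s) := inferInstance
    refine Eq.trans ?_ (NefH1Lib.Adj.finrank_h0 (S.residueField s) (X := π.fiber s))
    exact (CurvLib.hIso (k := S.residueField s) (KFlatLib.pullUnitIso (π.fiberι s)) 0).finrank_eq
  have h0η : PerfAux.betti π (Coh.structureModule X) (genericPoint S) 0 = 1 := by
    refine le_antisymm ?_ ?_
    · have h2 := hgen.mem_open (CohCmpLib.isOpen_betti_lt hfp hfl 0 2)
        (show PerfAux.betti π (Coh.structureModule X) s 0 < 2 by omega)
      exact Nat.lt_succ_iff.1 h2
    · letI : (π.fiber (genericPoint S)).Over (Spec (CommRingCat.of (S.residueField (genericPoint S)))) :=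
        ⟨π.fiberToSpecResidueField (genericPoint S)⟩
      haveI : IsProper (π.fiber (genericPoint S) ↘ Spec (CommRingCat.of (S.residueField (genericPoint S)))) :=
        MorphismProperty.pullback_snd _ _ ‹IsProper π›
      haveI : ConnectedSpace ↥(π.fiber (genericPoint S)) := inferInstance
      haveI := CurvLib.finite_HH (k := S.residueField (genericPoint S))
        (DevissLib.isCoh_structureModule (π.fiber (genericPoint S))) 0
      haveI : Nontrivial (Coh.HH (π.fiber (genericPoint S)) (Coh.structureModule _) 0) := by
        letI := CurvLib.secModule (k := S.residueField (genericPoint S)) (Coh.structureModule (π.fiber (genericPoint S)))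
        haveI : Nontrivial Γ(π.fiber (genericPoint S), ⊤) :=
          @Scheme.component_nontrivial _ ⊤ ⟨⟨Classical.arbitrary _, trivial⟩⟩
        haveI : Nontrivial Γ(Coh.structureModule (π.fiber (genericPoint S)), ⊤) := ‹Nontrivial Γ(π.fiber (genericPoint S), ⊤)›
        exact (CurvLib.hhZeroEquiv (k := S.residueField (genericPoint S))
          (Coh.structureModule (π.fiber (genericPoint S)))).toEquiv.nontrivial
      refine Nat.one_le_iff_ne_zero.2 (ne_of_gt ?_)
      exact lt_of_lt_of_eq (Module.finrank_pos (R := S.residueField (genericPoint S)))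
        (CurvLib.hIso (k := S.residueField (genericPoint S)) (KFlatLib.pullUnitIso (π.fiberι (genericPoint S))) 0).finrank_eq.symm
  refine ⟨h0s, ?_⟩
  have hχ : PerfAux.eulerChar π (Coh.structureModule X) s = PerfAux.eulerChar π (Coh.structureModule X) (genericPoint S) :=
    (CohCmpLib.isLocallyConstant_eulerChar hfp hfl).apply_eq_of_isPreconnected isPreconnected_univ trivial trivial
  rw [hfib s hdim, hfib _ hdimη, h0s, h0η] at hχ
  omega

end SurfFibLib

end
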